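import Groth.Agent.AssPts.Scheme
import Groth.Agent.AssPts.Structure
import Groth.Agent.QCohBase.Noetherian
import Groth.Prelude.Def_CohB1
import Groth.Prelude.Def_CInt
import Mathlib

/-!
# More on associated points
-/

set_option autoImplicit false

noncomputable section

universe u

open CategoryTheory CategoryTheory.Limits AlgebraicGeometry Opposite TopologicalSpace Groth.Agent.QCohBase

namespace Groth.Agent.AssPtsMore

variable {X : Scheme.{u}}

theorem isWeakAssPoint_iff_mem_ass (M : X.Modules) (x : X) :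
    Curv2.IsWeakAssPoint M x ↔ x ∈ AssSch.Ass M :=
  (AssPts.isAssPoint_iff_isWeakAssPoint M x).symm

/-- an affine neighbourhood -/
theorem exists_affine (x : X) : ∃ U : X.Opens, IsAffineOpen U ∧ x ∈ U := by
  obtain ⟨U, hU, hxU, -⟩ :=
    Opens.isBasis_iff_nbhd.1 X.isBasis_affineOpens (U := ⊤) (Opens.mem_top x)
  exact ⟨U, hU, hxU⟩

theorem isZero_iff_forall_not_mem_ass (M : X.Modules) [M.IsQuasicoherent] :
    IsZero M ↔ ∀ x : X, x ∉ AssSch.Ass M := by
  constructor
  · intro h x hx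
    obtain ⟨U, hU, hxU⟩ := exists_affine x
    obtain ⟨s, hs⟩ := (AssPts.mem_ass_iff_weakAss M hU x hxU).1 hx
    have hzero : s = 0 := by
      have := congrArg (fun φ : M ⟶ M => Scheme.Modules.Hom.app φ U s) (h.eq_of_src (𝟙 M) 0)
      simpa using this
    subst hzero
    exact hs.1.1.ne_top (eq_top_iff.2 fun a _ => hs.1.2 ((Submodule.mem_annihilator_span_singleton _ a).2 (smul_zero a)))
  · intro h
    refine isZero_of_stalks fun x => ⟨fun a b => ?_⟩
    suffices ∀ z : M.presheaf.stalk x, z = 0 by rw [this a, this b]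
    intro z
    obtain ⟨U, hU, hxU⟩ := exists_affine x
    obtain ⟨g, s, hg, hs⟩ := AssPts.exists_germ_smul_eq M hU x hxU z
    have hs0 : s = 0 := AssPts.eq_zero_of_forall_germ M hU s fun y _ hyA => absurd hyA (h y)
    rw [hs0, map_zero] at hs
    exact ((AssPts.notMem_prime_iff hU x hxU g).1 hg).smul_eq_zero.1 hs

theorem res_injective (M : X.Modules) [M.IsQuasicoherent] {V W : X.Opens} (h : W ≤ V)
    (hass : ∀ y ∈ V, y ∈ AssSch.Ass M → y ∈ W) :
    Function.Injective (M.presheaf.map (homOfLE h).op) := by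
  refine (injective_iff_map_eq_zero (M.presheaf.map (homOfLE h).op).hom).2 fun s hs => ?_
  refine TopCat.Presheaf.section_ext (⟨M.presheaf, M.isSheaf⟩ : TopCat.Sheaf AddCommGrpCat X.toTopCat)
    V _ _ fun x hx => ?_
  rw [map_zero]
  obtain ⟨U, hU, hxU, hUV⟩ := Opens.isBasis_iff_nbhd.1 X.isBasis_affineOpens (U := V) hx
  have h0 : mres M hUV s = 0 := AssPts.eq_zero_of_forall_germ M hU _ fun y hyU hyA => by
    rw [AssPts.germ_mres M y hUV hyU s,
      ← AssPts.germ_mres M y h (hass y (hUV hyU) hyA) s,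
      show mres M h s = 0 from hs, map_zero]
  exact (AssPts.germ_mres M x hUV hxU s).symm.trans (by rw [h0, map_zero])

theorem mem_ass_of_maximal_support (M : X.Modules) [M.IsQuasicoherent] (x : X)
    (hx : x ∈ CohB1.support M) (hmax : ∀ y : X, y ∈ CohB1.support M → y ⤳ x → y = x) :
    x ∈ AssSch.Ass M := by
  obtain ⟨U, hU, hxU⟩ := exists_affine x
  obtain ⟨z, hz⟩ : ∃ z : M.presheaf.stalk x, z ≠ 0 := by
    by_contra h
    push Not at h
    exact hx ⟨fun a b => by rw [h a, h b]⟩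
  obtain ⟨g, s, hg, hs⟩ := AssPts.exists_germ_smul_eq M hU x hxU z
  have hsx : M.presheaf.germ U x hxU s ≠ 0 := by
    rw [← hs]
    exact fun h => hz (((AssPts.notMem_prime_iff hU x hxU g).1 hg).smul_eq_zero.1 h)
  refine (AssPts.mem_ass_iff_weakAss M hU x hxU).2 ⟨s, ⟨⟨inferInstance, fun a ha => ?_⟩, ?_⟩⟩
  · by_contra hap
    exact hsx ((AssPts.germ_eq_zero_iff M hU x hxU s).2
      ⟨a, hap, (Submodule.mem_annihilator_span_singleton s a).1 ha⟩)
  · rintro q ⟨hq, hann⟩ hqp
    obtain ⟨y, hy, rfl⟩ := AssPts.exists_point hU q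
    have hys : y ∈ CohB1.support M := by
      intro hsub
      obtain ⟨t, ht, hts⟩ := (AssPts.germ_eq_zero_iff M hU y hy s).1 (Subsingleton.elim (h := hsub) _ _)
      exact ht (hann ((Submodule.mem_annihilator_span_singleton s t).2 hts))
    obtain rfl := hmax y hys ((AssPts.specializes_iff hU x hxU hy).2 hqp)
    exact le_rfl

/-- weakly associated primes of the ring at a point, read in the local ring -/
theorem isAssociatedPrime_stalk_iff (x : X) :
    IsAssociatedPrime (IsLocalRing.maximalIdeal (X.presheaf.stalk x)) (X.presheaf.stalk x) ↔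
      x ∈ AssSch.Ass (Coh.structureModule X) := by
  haveI := AssPts.isQuasicoherent_structureModule X
  obtain ⟨U, hU, hxU⟩ := exists_affine x
  rw [AssPts.mem_ass_iff_weakAss (Coh.structureModule X) hU x hxU]
  letI := (X.presheaf.germ U x hxU).hom.toAlgebra
  haveI hloc : IsLocalization.AtPrime (X.presheaf.stalk x) (hU.primeIdealOf ⟨x, hxU⟩).asIdeal :=
    hU.isLocalization_stalk ⟨x, hxU⟩
  set p := (hU.primeIdealOf ⟨x, hxU⟩).asIdeal with hp
  have hzero : ∀ r : Γ(X, U), X.presheaf.germ U x hxU r = 0 ↔ ∃ t : Γ(X, U), t ∉ p ∧ t * r = 0 := fun r => by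
    refine (IsLocalization.map_eq_zero_iff p.primeCompl (X.presheaf.stalk x) r).trans ?_
    exact ⟨fun ⟨⟨t, ht⟩, h⟩ => ⟨t, ht, h⟩, fun ⟨t, ht, h⟩ => ⟨⟨t, ht⟩, h⟩⟩
  rw [WeakAss.mem_weakAss_iff]
  constructor
  · rintro ⟨-, z, hz⟩
    obtain ⟨g, r, hg, hr⟩ := AssPts.exists_ringGerm_mul_eq hU x hxU z
    have hgu := (AssPts.notMem_prime_iff hU x hxU g).1 hg
    have hzne : z ≠ 0 := by
      rintro rfl
      refine (IsLocalRing.maximalIdeal.isMaximal (X.presheaf.stalk x)).ne_top ?_
      rw [hz, Ideal.radical_eq_top, Ideal.eq_top_iff_one]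
      simp [Submodule.mem_colon_singleton]
    refine ⟨(hU.primeIdealOf ⟨x, hxU⟩).isPrime, show Γ(Coh.structureModule X, U) from r, fun a ha => ?_, fun a ha => ?_⟩
    · by_contra hap
      have h0 : X.presheaf.germ U x hxU r = 0 := (hzero r).2 ⟨a, hap, ha⟩
      rw [← hr] at h0
      exact hzne (hgu.mul_left_eq_zero.1 h0)
    · have : X.presheaf.germ U x hxU a ∈ IsLocalRing.maximalIdeal (X.presheaf.stalk x) :=
        (AssPts.mem_prime_iff hU x hxU a).1 ha
      rw [hz] at this
      obtain ⟨n, hn⟩ := this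
      rw [Submodule.mem_colon_singleton, Submodule.mem_bot, smul_eq_mul] at hn
      obtain ⟨t, ht, htz⟩ := (hzero (a ^ n * r)).1 (by
        rw [map_mul, map_pow, ← hr, ← mul_assoc, hn, zero_mul])
      exact ⟨t, ht, n, (mul_assoc t (a ^ n) r).trans htz⟩
  · rintro ⟨-, r, h1, h2⟩
    refine ⟨(IsLocalRing.maximalIdeal.isMaximal _).isPrime,
      X.presheaf.germ U x hxU (show Γ(X, U) from r), le_antisymm (fun a ha => ?_) ?_⟩
    · obtain ⟨g, a', hg, ha'⟩ := AssPts.exists_ringGerm_mul_eq hU x hxU a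
      have hgu := (AssPts.notMem_prime_iff hU x hxU g).1 hg
      have hap : a' ∈ p := (AssPts.mem_prime_iff hU x hxU a').2 (ha' ▸ Ideal.mul_mem_right _ _ ha)
      obtain ⟨t, ht, n, hn⟩ := h2 a' hap
      refine ⟨n, ?_⟩
      rw [Submodule.mem_colon_singleton, Submodule.mem_bot, smul_eq_mul]
      have h0 : X.presheaf.germ U x hxU (a' ^ n * (show Γ(X, U) from r)) = 0 :=
        (hzero _).2 ⟨t, ht, (mul_assoc t (a' ^ n) _).symm.trans hn⟩
      rw [map_mul, map_pow, ← ha', mul_pow, mul_comm (a ^ n), mul_assoc] at h0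
      exact (hgu.pow n).mul_right_eq_zero.1 h0
    · refine (IsLocalRing.maximalIdeal.isMaximal _).isPrime.radical_le_iff.2 ?_
      refine IsLocalRing.le_maximalIdeal fun htop => ?_
      rw [Ideal.eq_top_iff_one, Submodule.mem_colon_singleton, Submodule.mem_bot, one_smul] at htop
      obtain ⟨t, ht, htr⟩ := (hzero _).1 htop
      exact ht (h1 t htr)

end Groth.Agent.AssPtsMore
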